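import Groth.Agent.PushDense13.Cases
import Mathlib.CategoryTheory.Sites.DenseSubsite.InducedTopology
import Mathlib.CategoryTheory.Sites.DenseSubsite.OneHypercoverDense

/-!
# The essential image of the direct image: sheaves trivial away from the image

The base change functor is a dense subsite for the topology induced on the small etale site below,
and a sheaf there is a sheaf for this topology as soon as it is trivial away from the image.
-/

set_option autoImplicit false
set_option backward.isDefEq.respectTransparency false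
set_option backward.isDefEq.respectTransparency.types false

noncomputable section

universe u

open CategoryTheory CategoryTheory.Limits AlgebraicGeometry Opposite AlgSp Topology
open Groth.Agent.AlgSpDec

namespace Groth.Agent.PushDense13

variable {S : Scheme.{u}} {X Y : Sp S} {f : X ⟶ Y} (hrep : Representable f)

/-- A point of a base change above the image of a morphism is in the image of its base change. -/
theorem mem_range_bc_map {E' E : EtOver Y} (a : E' ⟶ E) (x : ↥(EtOver.bcObj hrep E).obj.left.left)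
    (hx : (EtOver.bcπ hrep E).left x ∈ Set.range a.hom.left.left) :
    x ∈ Set.range ((EtOver.bc hrep).map a).hom.left.left := by
  have sq := EtOver.isPullback_bcMap_left hrep a
  obtain ⟨y, hy⟩ := hx
  obtain ⟨z, hz, -⟩ := Scheme.Pullback.exists_preimage_pullback
    (f := (EtOver.bcπ hrep E).left) (g := a.hom.left.left) x y hy.symm
  exact ⟨sq.isoPullback.inv z, (Scheme.Hom.comp_apply _ _ z).symm.trans
    ((congrArg (fun j : pullback (EtOver.bcπ hrep E).left a.hom.left.left ⟶
      (EtOver.bcObj hrep E).obj.left.left => j z) sq.isoPullback_inv_fst).trans hz)⟩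

theorem isLocallyFaithful : (EtOver.bc hrep).IsLocallyFaithful (etTop X) where
  functorPushforward_equalizer_mem {U V} g₁ g₂ hg := by
    let hl := EtOver.prodIsLimit U V
    obtain ⟨Γ₁, hΓ₁, hΓ₁'⟩ := BinaryFan.IsLimit.lift' hl (𝟙 U) g₁
    obtain ⟨Γ₂, hΓ₂, hΓ₂'⟩ := BinaryFan.IsLimit.lift' hl (𝟙 U) g₂
    let O : U.obj.left.left.Opens :=
      ⟨Γ₁.hom.left.left ⁻¹' Set.range Γ₂.hom.left.left,
        (isOpenMap_hom Γ₂).isOpen_range.preimage Γ₁.hom.left.left.continuous⟩
    let ι := etOpenι U O
    have hbc : (EtOver.bc hrep).map Γ₁ = (EtOver.bc hrep).map Γ₂ := by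
      refine BinaryFan.IsLimit.hom_ext (QCPull13.bcProdIsLimit hrep U V) ?_ ?_
      · change (EtOver.bc hrep).map Γ₁ ≫ (EtOver.bc hrep).map (EtOver.prodFst U V) =
          (EtOver.bc hrep).map Γ₂ ≫ (EtOver.bc hrep).map (EtOver.prodFst U V)
        rw [← Functor.map_comp, ← Functor.map_comp]
        exact congrArg _ (hΓ₁.trans hΓ₂.symm)
      · change (EtOver.bc hrep).map Γ₁ ≫ (EtOver.bc hrep).map (EtOver.prodSnd U V) =
          (EtOver.bc hrep).map Γ₂ ≫ (EtOver.bc hrep).map (EtOver.prodSnd U V)
        rw [← Functor.map_comp, ← Functor.map_comp]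
        exact ((congrArg (EtOver.bc hrep).map hΓ₁').trans hg).trans (congrArg (EtOver.bc hrep).map hΓ₂').symm
    have heq : ι ≫ g₁ = ι ≫ g₂ := by
      have hr : Set.range (ι ≫ Γ₁).hom.left.left ⊆ Set.range Γ₂.hom.left.left := by
        rintro _ ⟨z, rfl⟩
        exact (range_etOpenι U O).subset ⟨z, rfl⟩
      obtain ⟨m, hm⟩ := exists_comp_eq_of_range Γ₂ _ hΓ₂ (ι ≫ Γ₁) hr
      have hmι : m = ι := by
        have := congrArg (· ≫ EtOver.prodFst U V) hm
        simp only [Category.assoc] at this
        rw [show Γ₂ ≫ EtOver.prodFst U V = 𝟙 _ from hΓ₂, show Γ₁ ≫ EtOver.prodFst U V = 𝟙 _ from hΓ₁] at this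
        exact (Category.comp_id _).symm.trans (this.trans (Category.comp_id _))
      have := congrArg (· ≫ EtOver.prodSnd U V) hm
      simp only [Category.assoc] at this
      rw [show Γ₂ ≫ EtOver.prodSnd U V = g₂ from hΓ₂', show Γ₁ ≫ EtOver.prodSnd U V = g₁ from hΓ₁', hmι] at this
      exact this.symm
    refine GrothendieckTopology.superset_covering _ ?_
      (AlgSpDec.ofArrows_mem_etTop (fun _ : PUnit.{1} => _) (fun _ => (EtOver.bc hrep).map ι)
        fun x => ⟨⟨⟩, mem_range_bc_map hrep ι x ?_⟩)
    · rw [Sieve.ofArrows, Sieve.generate_le_iff]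
      rintro _ _ ⟨i⟩
      exact Sieve.image_mem_functorPushforward (EtOver.bc hrep) _ heq
    · refine (range_etOpenι U O).symm.subset ?_
      change Γ₁.hom.left.left ((EtOver.bcπ hrep U).left x) ∈ Set.range Γ₂.hom.left.left
      refine ⟨(EtOver.bcπ hrep U).left x, ?_⟩
      have e₁ := EtOver.bcMap_snd hrep Γ₁
      have e₂ := EtOver.bcMap_snd hrep Γ₂
      have e : hrep.snd U.obj.hom ≫ Γ₂.hom.left = hrep.snd U.obj.hom ≫ Γ₁.hom.left := by
        rw [← e₁, ← e₂]
        exact congrArg (fun j : (EtOver.bc hrep).obj U ⟶ (EtOver.bc hrep).obj _ => j.hom.left ≫ hrep.snd _) hbc.symm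
      exact (Scheme.Hom.comp_apply _ _ x).symm.trans
        ((congrArg (fun j : hrep.pullback U.obj.hom ⟶ (EtOver.prodObj U V).obj.left => j.left x) e).trans
          (Scheme.Hom.comp_apply _ _ x))

/-- A base change with no points has a terminal value. -/
def isTerminalOfIsEmpty {A : Type (u + 2)} [Category.{u + 1} A] (F : EtSh X A) (W : EtOver X)
    [IsEmpty ↥W.obj.left.left] : IsTerminal (F.obj.obj (op W)) :=
  Sheaf.isTerminalOfBotCover F W (GrothendieckTopology.superset_covering _
    (by rw [Sieve.ofArrows, Sieve.generate_le_iff]; rintro _ _ ⟨i⟩; exact i.elim)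
    (AlgSpDec.ofArrows_mem_etTop (fun i : PEmpty.{1} => (i.elim : EtOver X)) (fun i => i.elim)
      (fun x => (IsEmpty.false x).elim)))

section Converse

variable (hd : Dense hrep) (he : Emb hrep)
  (hc : ∀ E : EtOver Y, IsClosed (Set.range (EtOver.bcπ hrep E).left))
  {A : Type (u + 2)} [Category.{u + 1} A] (G : EtSh Y A)
  (hG : ∀ E : EtOver Y, IsEmpty ↥(EtOver.bcObj hrep E).obj.left.left → Nonempty (IsTerminal (G.obj.obj (op E))))

include hd he hc hG

theorem isSheaf_inducedTopology :
    haveI := isCoverDense hrep hd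
    haveI := isLocallyFull hrep he
    Presheaf.IsSheaf ((EtOver.bc hrep).inducedTopology (etTop X)) G.obj := by
  haveI := isCoverDense hrep hd
  haveI := isLocallyFull hrep he
  haveI := isLocallyFaithful hrep
  intro T U R hR
  rw [Functor.mem_inducedTopology_iff_of_isCoverDense] at hR
  let D : Sieve U :=
    { arrows := fun Z g => R g ∨ IsEmpty ↥(EtOver.bcObj hrep Z).obj.left.left
      downward_closed := by
        rintro Z Z' g (h | h) c
        · exact Or.inl (R.downward_closed h c)
        · exact Or.inr (Function.isEmpty (EtOver.bcMap hrep c).hom.left.left) }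
  have hD : D ∈ etTop Y U := by
    obtain ⟨R', hR', hle⟩ := (etPre X).mem_toGrothendieck_iff_of_isStableUnderComposition.1 hR
    obtain ⟨ι, Z, g, rfl⟩ := R'.exists_eq_ofArrows
    have key : ∀ u : ↥U.obj.left.left, ∃ (W : EtOver Y) (a : W ⟶ U), D a ∧ u ∈ Set.range a.hom.left.left := by
      intro u
      by_cases hu : u ∈ Set.range (EtOver.bcπ hrep U).left
      · obtain ⟨x, rfl⟩ := hu
        obtain ⟨i, z, hz⟩ := (ofArrows_mem_etPre_iff Z g).1 hR' x
        obtain ⟨W, a, b, ha, hab⟩ := hle _ _ (Presieve.ofArrows.mk i)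
        refine ⟨W, a, Or.inl ha, (EtOver.bcπ hrep W).left (b.hom.left.left z), ?_⟩
        rw [← hz, hab]
        change a.hom.left.left ((EtOver.bcπ hrep W).left (b.hom.left.left z)) =
          (EtOver.bcπ hrep U).left ((b ≫ (EtOver.bc hrep).map a).hom.left.left z)
        refine Eq.trans ?_ (congrArg (EtOver.bcπ hrep U).left
          (Scheme.Hom.comp_apply b.hom.left.left ((EtOver.bc hrep).map a).hom.left.left z)).symm
        exact ((Scheme.Hom.comp_apply _ _ _).symm.trans
          ((congrArg (fun j : (EtOver.bcObj hrep W).obj.left.left ⟶ U.obj.left.left => j (b.hom.left.left z))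
            (EtOver.isPullback_bcMap_left hrep a).w.symm).trans (Scheme.Hom.comp_apply _ _ _)))
      · let O : U.obj.left.left.Opens := ⟨(Set.range (EtOver.bcπ hrep U).left)ᶜ, (hc U).isOpen_compl⟩
        refine ⟨etOpen U O, etOpenι U O, Or.inr ⟨fun p => ?_⟩, (range_etOpenι U O).symm.subset hu⟩
        refine (range_etOpenι U O).subset ⟨(EtOver.bcπ hrep (etOpen U O)).left p, rfl⟩
          ⟨((EtOver.bc hrep).map (etOpenι U O)).hom.left.left p, ?_⟩
        exact (Scheme.Hom.comp_apply _ _ _).symm.trans
          ((congrArg (fun j : (EtOver.bcObj hrep (etOpen U O)).obj.left.left ⟶ U.obj.left.left => j p)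
            (EtOver.isPullback_bcMap_left hrep (etOpenι U O)).w).trans (Scheme.Hom.comp_apply _ _ _))
    choose W a ha hu using key
    refine (etTop Y).superset_covering ?_ (AlgSpDec.ofArrows_mem_etTop W a fun u => ⟨u, hu u⟩)
    rw [Sieve.ofArrows, Sieve.generate_le_iff]
    rintro _ _ ⟨u⟩
    exact ha u
  classical
  intro x hx
  let x' : Presieve.FamilyOfElements (G.obj ⋙ coyoneda.obj (op T)) D.arrows := fun Z g hg =>
    if h : R g then x g h else (hG Z (hg.resolve_left h)).some.from T
  have hx' : x'.Compatible := by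
    rw [Presieve.compatible_iff_sieveCompatible]
    intro Z Z' g c hg
    by_cases h : R g
    · simp only [x', dif_pos h, dif_pos (R.downward_closed h c)]
      exact hx.to_sieveCompatible g c h
    · exact (hG Z' (haveI : IsEmpty ↥(EtOver.bcObj hrep Z).obj.left.left := hg.resolve_left h
        Function.isEmpty (EtOver.bcMap hrep c).hom.left.left)).some.hom_ext _ _
  obtain ⟨t, ht, huniq⟩ := G.property T D hD x' hx'
  refine ⟨t, fun Z g hg => (ht g (Or.inl hg)).trans (dif_pos hg), fun t' ht' => huniq t' fun Z g hg => ?_⟩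
  by_cases h : R g
  · exact (ht' g h).trans (dif_pos h).symm
  · exact (hG Z (hg.resolve_left h)).some.hom_ext _ _

theorem mem_essImage [∀ (X' : (EtOver X)ᵒᵖ), HasLimitsOfShape (StructuredArrow X' (EtOver.bc hrep).op) A] :
    (pushEt hrep A).essImage G := by
  haveI := isCoverDense hrep hd
  haveI := isLocallyFull hrep he
  haveI := isLocallyFaithful hrep
  let J' := (EtOver.bc hrep).inducedTopology (etTop X)
  let e : Sheaf J' A ≌ EtSh X A := (EtOver.bc hrep).sheafInducedTopologyEquivOfIsCoverDense (etTop X) A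
  let G' : Sheaf J' A := ⟨G.obj, isSheaf_inducedTopology hrep hd he hc G hG⟩
  have i : (EtOver.bc hrep).op ⋙ (e.functor.obj G').obj ≅ G.obj :=
    (sheafToPresheaf J' A).mapIso (e.unitIso.app G').symm
  exact ⟨e.functor.obj G', ⟨(fullyFaithfulSheafToPresheaf (etTop Y) A).preimageIso i⟩⟩

end Converse

/-- A chart misses the image exactly if its base change has no points. -/
theorem isEmpty_iff_disjoint (E : EtOver Y) :
    IsEmpty ↥(EtOver.bcObj hrep E).obj.left.left ↔
      Disjoint (Set.range (Points.map E.obj.hom)) (Set.range (Points.map f)) := by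
  constructor
  · intro h
    rw [Set.disjoint_left]
    rintro _ ⟨y, rfl⟩ ⟨x, hx⟩
    obtain ⟨z, -, -⟩ := AlgSpLib.exists_point_of_isPullback (hrep.isPullback E.obj.hom) hx
    exact h.false (Points.toScheme _ z)
  · intro h
    refine ⟨fun w => Set.disjoint_left.1 h ⟨Points.map ((yon S).map (hrep.snd E.obj.hom))
      (Points.ofScheme (hrep.pullback E.obj.hom) w), ?_⟩ ⟨Points.map (hrep.fst E.obj.hom)
      (Points.ofScheme (hrep.pullback E.obj.hom) w), rfl⟩⟩
    rw [← Points.map_comp, ← Points.map_comp, hrep.w]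

end Groth.Agent.PushDense13

end
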