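import Groth.Agent.PushDense13.Cases
import Mathlib.AlgebraicGeometry.Morphisms.ClosedImmersion

/-!
# The direct image of modules along a closed immersion is fully faithful
-/

set_option autoImplicit false
set_option backward.isDefEq.respectTransparency false
set_option backward.isDefEq.respectTransparency.types false

noncomputable section

universe u

open CategoryTheory CategoryTheory.Limits AlgebraicGeometry Opposite AlgSp Topology
open Groth.Agent.AlgSpDec

namespace Groth.Agent.PushDense13

variable {S : Scheme.{u}} {X Y : Sp S} {f : X ⟶ Y} (hrep : Representable f)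

theorem faithful_pushModEt (hd : Dense hrep) (he : Emb hrep) : (pushModEt hrep).Faithful where
  map_injective {L M a b} h := by
    haveI := faithful_pushEt hrep hd he AddCommGrpCat.{u + 1}
    apply (toAbEt X).map_injective
    apply (pushEt hrep AddCommGrpCat.{u + 1}).map_injective
    have h' := congrArg (toAbEt Y).map h
    exact h'

theorem full_pushModEt (hd : Dense hrep) (he : Emb hrep)
    (hsurj : ∀ V : EtOver Y, IsAffine V.obj.left.left →
      Function.Surjective ((bcRingHom hrep).hom.app (op V))) :
    (pushModEt hrep).Full where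
  map_surjective {L M} k := by
    haveI := full_pushEt hrep hd he AddCommGrpCat.{u + 1}
    obtain ⟨g, hg⟩ := (pushEt hrep AddCommGrpCat.{u + 1}).map_surjective
      (X := (toAbEt X).obj L) (Y := (toAbEt X).obj M) ((toAbEt Y).map k)
    have hgk : ∀ (V : EtOver Y) (s : L.val.obj (op ((EtOver.bc hrep).obj V))),
        g.hom.app (op ((EtOver.bc hrep).obj V)) s = k.val.app (op V) s :=
      fun V s => congrArg (fun j => j.hom.app (op V) s) hg
    have hlin : ∀ (W : (EtOver X)ᵒᵖ) (r : (OEtRing X).obj.obj W) (s : L.val.obj W),
        @Eq ↑(M.val.obj W) (g.hom.app W (r • s)) (@HSMul.hSMul _ ↑(M.val.obj W) _ instHSMul r (g.hom.app W s)) := by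
      intro W r s
      let S' : Sieve W.unop :=
        { arrows := fun Z j => ∃ (V : EtOver Y) (_ : IsAffine V.obj.left.left)
            (a : Z ⟶ (EtOver.bc hrep).obj V) (b : (EtOver.bc hrep).obj V ⟶ W.unop), a ≫ b = j
          downward_closed := by
            rintro Z Z' j ⟨V, hV, a, b, rfl⟩ c
            exact ⟨V, hV, c ≫ a, b, Category.assoc _ _ _⟩ }
      have hS : S' ∈ etTop X W.unop := by
        have key : ∀ w, ∃ (Z : EtOver X) (j : Z ⟶ W.unop), S' j ∧ w ∈ Set.range j.hom.left.left := fun w => by
          obtain ⟨V, b, x, rfl⟩ := hd W.unop w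
          obtain ⟨_, ⟨O, hO, rfl⟩, hxO, -⟩ := V.obj.left.left.isBasis_affineOpens.exists_subset_of_mem_open
            (Set.mem_univ ((EtOver.bcπ hrep V).left x)) isOpen_univ
          let ι := etOpenι V O
          haveI : IsAffine (etOpen V O).obj.left.left := hO
          refine ⟨_, (EtOver.bc hrep).map ι ≫ b, ⟨etOpen V O, this, 𝟙 _, _, Category.id_comp _⟩, ?_⟩
          have sq := EtOver.isPullback_bcMap_left hrep ι
          obtain ⟨y, hy⟩ := (range_etOpenι V O).symm.subset hxO
          obtain ⟨z, hz, -⟩ := Scheme.Pullback.exists_preimage_pullback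
            (f := (EtOver.bcπ hrep V).left) (g := ι.hom.left.left) x y hy.symm
          refine ⟨sq.isoPullback.inv z, ?_⟩
          refine (Scheme.Hom.comp_apply ((EtOver.bc hrep).map ι).hom.left.left b.hom.left.left _).trans ?_
          exact congrArg _ ((Scheme.Hom.comp_apply _ _ z).symm.trans
            ((congrArg (fun j : pullback (EtOver.bcπ hrep V).left ι.hom.left.left ⟶
              (EtOver.bcObj hrep V).obj.left.left => j z) sq.isoPullback_inv_fst).trans hz))
        choose Z j hj hw using key
        refine (etTop X).superset_covering ?_ (AlgSpDec.ofArrows_mem_etTop Z j fun w => ⟨w, hw w⟩)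
        rw [Sieve.ofArrows, Sieve.generate_le_iff]
        rintro _ _ ⟨w⟩
        exact hj w
      refine (((isSheaf_iff_isSheaf_of_type _ _).1
        ((sheafCompose (etTop X) (CategoryTheory.forget AddCommGrpCat.{u + 1})).obj
          ((toAbEt X).obj M)).property).isSeparated _ hS).ext fun Z j hj => ?_
      obtain ⟨V, hV, a, b, rfl⟩ := hj
      obtain ⟨r', hr'⟩ := hsurj V hV ((OEtRing X).obj.map b.op r)
      have nat : ∀ t : L.val.obj W, g.hom.app (op ((EtOver.bc hrep).obj V)) (L.val.map b.op t) =
          M.val.map b.op (g.hom.app W t) :=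
        fun t => ConcreteCategory.congr_hom (g.hom.naturality b.op) t
      have hb : M.val.map b.op (g.hom.app W (r • s)) =
          M.val.map b.op (@HSMul.hSMul _ ↑(M.val.obj W) _ instHSMul r (g.hom.app W s)) := by
        rw [← nat, PresheafOfModules.map_smul, PresheafOfModules.map_smul, ← nat, ← hr', hgk, hgk]
        exact (k.val.app (op V)).hom.map_smul r' _
      change M.val.map (a ≫ b).op _ = M.val.map (a ≫ b).op _
      rw [op_comp, PresheafOfModules.map_comp_apply, PresheafOfModules.map_comp_apply, hb]
    refine ⟨⟨PresheafOfModules.homMk g.hom hlin⟩, SheafOfModules.hom_ext (PresheafOfModules.hom_ext ?_)⟩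
    intro V
    ext s
    exact hgk V.unop s

theorem surjective_bcRingHom_of_isClosedImmersion (hi : RepWith @IsClosedImmersion f) (V : EtOver Y)
    (hV : IsAffine V.obj.left.left) : Function.Surjective ((bcRingHom hrep).hom.app (op V)) := by
  haveI : IsClosedImmersion (hrep.snd V.obj.hom).left := hi.2 V.obj.hom _ _ (hrep.isPullback V.obj.hom)
  intro x
  obtain ⟨y, hy⟩ := (hrep.snd V.obj.hom).left.app_surjective ⊤ (isAffineOpen_top _) x.down
  exact ⟨ULift.up y, congrArg ULift.up hy⟩

theorem isIso_counit_modules (hY : IsAlgSpace Y) (hi : RepWith @IsClosedImmersion f)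
    [(SheafOfModules.pushforward.{u + 1} (bcRingHom hrep)).IsRightAdjoint] :
    IsIso (pullPushAdjModEt hrep).counit :=
  haveI := full_pushModEt hrep (dense_of_isClosedImmersion hrep hY hi) (emb_of_isClosedImmersion hrep hi)
    (surjective_bcRingHom_of_isClosedImmersion hrep hi)
  haveI := faithful_pushModEt hrep (dense_of_isClosedImmersion hrep hY hi) (emb_of_isClosedImmersion hrep hi)
  inferInstance

end Groth.Agent.PushDense13

end
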