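import Groth.Agent.PushDense13.Core
import Groth.Agent.EtFound.LiftEtale
import Groth.Agent.EtFound.IntegralSplit
import Groth.Agent.AlgSpLib.Points
import Groth.Prelude.Def_AlgSp4

/-!
# Closed immersions and integral universally injective morphisms give dense, embedded base change
-/

set_option autoImplicit false
set_option backward.isDefEq.respectTransparency false
set_option backward.isDefEq.respectTransparency.types false

noncomputable section

universe u

open CategoryTheory CategoryTheory.Limits AlgebraicGeometry Opposite AlgSp Topology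
open Groth.Agent.AlgSpDec

namespace Groth.Agent.PushDense13

variable {S : Scheme.{u}} {X Y : Sp S} {f : X ⟶ Y} (hrep : Representable f)

/-- Lifting etale schemes along the base change to one chart gives density. -/
theorem dense_of_lift (E₀ : EtOver Y) (hs : RepWith @Surjective E₀.obj.hom)
    (hlift : ∀ {T : Scheme.{u}} (t : T ⟶ (EtOver.bcObj hrep E₀).obj.left.left) [Etale t] (x : T),
      ∃ (V : Scheme.{u}) (v : V ⟶ E₀.obj.left.left) (_ : Etale v)
        (h : pullback v (EtOver.bcπ hrep E₀).left ⟶ T),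
        h ≫ t = pullback.snd v (EtOver.bcπ hrep E₀).left ∧ x ∈ Set.range h) :
    Dense hrep := by
  intro W w
  let E₁ := (EtOver.bc hrep).obj E₀
  have hs₁ : RepWith @Surjective E₁.obj.hom :=
    (repWith_isStableUnderBaseChange (S := S) @Surjective).of_isPullback
      (hrep.isPullback E₀.obj.hom).flip hs
  haveI : Surjective (E₁.property.1.snd W.obj.hom).left :=
    hs₁.2 W.obj.hom _ _ (E₁.property.1.isPullback W.obj.hom)
  obtain ⟨w', hw'⟩ := (E₁.property.1.snd W.obj.hom).left.surjective w
  haveI := EtOver.etale_left (EtOver.prodSnd W E₁)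
  obtain ⟨V, v, hv, h, hh, z, hz⟩ := hlift (EtOver.prodSnd W E₁).hom.left.left w'
  let vv : Over.mk (v ≫ E₀.obj.left.hom) ⟶ E₀.obj.left := Over.homMk v rfl
  let V₀ : EtOver Y := EtOver.mk ((yon S).map vv ≫ E₀.obj.hom)
    ((repWith_isMultiplicative (S := S) @Etale).comp_mem _ _ ((repWith_yon_map_iff _ _).2 hv) E₀.property)
  let a : V₀ ⟶ E₀ := EtOver.homMk vv rfl
  have sq := (EtOver.isPullback_bcMap_left hrep a).flip
  let k : ((EtOver.bc hrep).obj V₀).obj.left.left ⟶ (EtOver.prodObj W E₁).obj.left.left :=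
    sq.isoPullback.hom ≫ h
  have hk : k ≫ (EtOver.prodSnd W E₁).hom.left.left = ((EtOver.bc hrep).map a).hom.left.left :=
    (Category.assoc _ _ _).trans ((congrArg (sq.isoPullback.hom ≫ ·) hh).trans sq.isoPullback_hom_snd)
  let kk : ((EtOver.bc hrep).obj V₀).obj.left ⟶ (EtOver.prodObj W E₁).obj.left := Over.homMk k (by
    rw [← Over.w (EtOver.prodSnd W E₁).hom.left, ← Category.assoc, hk]
    exact Over.w ((EtOver.bc hrep).map a).hom.left)
  have hkk : kk ≫ (EtOver.prodSnd W E₁).hom.left = ((EtOver.bc hrep).map a).hom.left :=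
    Over.OverMorphism.ext hk
  refine ⟨V₀, EtOver.homMk kk (by
    rw [← EtOver.w (EtOver.prodSnd W E₁), ← Category.assoc, ← Functor.map_comp, hkk]
    exact EtOver.w ((EtOver.bc hrep).map a)) ≫ EtOver.prodFst W E₁, ?_⟩
  refine ⟨sq.isoPullback.inv z, ?_⟩
  have e : k (sq.isoPullback.inv z) = w' := by
    refine (Scheme.Hom.comp_apply _ _ _).symm.trans ?_
    rw [show sq.isoPullback.inv ≫ k = h from Iso.inv_hom_id_assoc _ _]
    exact hz
  refine (Scheme.Hom.comp_apply k (E₁.property.1.snd W.obj.hom).left _).trans ?_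
  rw [e]
  exact hw'

theorem dense_of_isClosedImmersion (hY : IsAlgSpace Y) (hi : RepWith @IsClosedImmersion f) :
    Dense hrep := by
  obtain ⟨U, p, hp, hs⟩ := hY.atlas
  haveI : IsClosedImmersion (EtOver.bcπ hrep (EtOver.mk p hp)).left :=
    hi.2 p _ _ (hrep.isPullback p)
  refine dense_of_lift hrep (EtOver.mk p hp) hs fun {T} t _ x => ?_
  obtain ⟨V, h, h₁, -, h₂⟩ := EtFound.exists_etale_lift (EtOver.bcπ hrep (EtOver.mk p hp)).left t x
  exact ⟨V.left, V.hom, V.prop, h, h₁, h₂⟩

theorem emb_of_isClosedImmersion (hi : RepWith @IsClosedImmersion f) : Emb hrep := fun E =>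
  haveI : IsClosedImmersion (EtOver.bcπ hrep E).left := hi.2 E.obj.hom _ _ (hrep.isPullback E.obj.hom)
  (EtOver.bcπ hrep E).left.isEmbedding

/-- Base changes of a universally injective morphism to schemes are injective. -/
theorem injective_bcπ (hu : IsUnivInjectiveMor f) (E : EtOver Y) :
    Function.Injective (EtOver.bcπ hrep E).left := by
  have hinj := hu (IsAlgSpace.yon_obj E.obj.left) E.obj.hom _ _ (hrep.isPullback E.obj.hom)
  intro a b hab
  have key : ∀ c, Points.map ((yon S).map (hrep.snd E.obj.hom)) (Points.ofScheme (hrep.pullback E.obj.hom) c) =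
      Points.ofScheme E.obj.left ((hrep.snd E.obj.hom).left c) := fun c => by
    unfold Points.ofScheme
    rw [Points.map_ofPt, Category.id_comp, ← Category.comp_id ((yon S).map (hrep.snd E.obj.hom)),
      AlgSpLib.ofPt_comp]
  have h2 : Points.ofScheme (hrep.pullback E.obj.hom) a = Points.ofScheme (hrep.pullback E.obj.hom) b :=
    hinj (by rw [key, key]; exact congrArg _ hab)
  simpa using congrArg (Points.toScheme _) h2

theorem dense_of_integral_univInjective (hY : IsAlgSpace Y) (hi : RepWith @IsIntegralHom f)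
    (hu : IsUnivInjectiveMor f) : Dense hrep := by
  obtain ⟨U, p, hp, hs⟩ := hY.atlas
  haveI : IsIntegralHom (EtOver.bcπ hrep (EtOver.mk p hp)).left := hi.2 p _ _ (hrep.isPullback p)
  have hinj := injective_bcπ hrep hu (EtOver.mk p hp)
  refine dense_of_lift hrep (EtOver.mk p hp) hs fun {T} t _ x => ?_
  obtain ⟨V, v, hv, z, -, h, hh, w, hw⟩ := EtFound.exists_split (EtOver.bcπ hrep (EtOver.mk p hp)).left t
    ((EtOver.bcπ hrep (EtOver.mk p hp)).left (t x)) (fun y hy => ⟨x, (hinj hy).symm⟩) x rfl
  refine ⟨V, v, hv, (pullbackSymmetry v (EtOver.bcπ hrep (EtOver.mk p hp)).left).hom ≫ h, ?_,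
    (pullbackSymmetry v (EtOver.bcπ hrep (EtOver.mk p hp)).left).inv w, ?_⟩
  · rw [Category.assoc, hh]
    exact pullbackSymmetry_hom_comp_fst _ _
  · refine ((Scheme.Hom.comp_apply (pullbackSymmetry _ _).inv _ w).symm.trans ?_).trans hw
    rw [Iso.inv_hom_id_assoc]

theorem emb_of_integral_univInjective (hi : RepWith @IsIntegralHom f) (hu : IsUnivInjectiveMor f) :
    Emb hrep := fun E =>
  haveI : IsIntegralHom (EtOver.bcπ hrep E).left := hi.2 E.obj.hom _ _ (hrep.isPullback E.obj.hom)
  (IsClosedEmbedding.of_continuous_injective_isClosedMap (EtOver.bcπ hrep E).left.continuous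
    (injective_bcπ hrep hu E) (EtOver.bcπ hrep E).left.isClosedMap).isEmbedding

end Groth.Agent.PushDense13

end
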