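import Groth.Prelude.Def_AlgSpOX2
import Groth.Agent.AlgSpDec.EtSite
import Groth.Agent.QCPull13.Space
import Mathlib.CategoryTheory.Sites.DenseSubsite.Basic
import Mathlib.CategoryTheory.Adjunction.FullyFaithful
import Mathlib.AlgebraicGeometry.Morphisms.FlatMono

/-!
# Base change of small etale sites as a cover dense, locally full functor

If every base change of `f` is an embedding and etale neighbourhoods lift along `f`, then the base
change functor is cover dense and locally full, so that the direct image is fully faithful.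
-/

set_option autoImplicit false
set_option backward.isDefEq.respectTransparency false
set_option backward.isDefEq.respectTransparency.types false

noncomputable section

universe u

open CategoryTheory CategoryTheory.Limits AlgebraicGeometry Opposite AlgSp Topology
open Groth.Agent.AlgSpDec

namespace Groth.Agent.PushDense13

variable {S : Scheme.{u}} {X Y : Sp S} {f : X ⟶ Y} (hrep : Representable f)

/-- Every etale scheme over the source is covered by base changes. -/
def Dense : Prop :=
  ∀ (W : EtOver X) (w : ↥W.obj.left.left), ∃ (V : EtOver Y) (g : (EtOver.bc hrep).obj V ⟶ W),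
    w ∈ Set.range g.hom.left.left

/-- Every base change to a chart is an embedding. -/
def Emb : Prop := ∀ E : EtOver Y, IsEmbedding (EtOver.bcπ hrep E).left

theorem isCoverDense (hd : Dense hrep) : (EtOver.bc hrep).IsCoverDense (etTop X) where
  is_cover W := by
    choose V g hg using hd W
    refine GrothendieckTopology.superset_covering _ ?_ (AlgSpDec.ofArrows_mem_etTop (fun w => (EtOver.bc hrep).obj (V w)) g
      fun w => ⟨w, hg w⟩)
    rw [Sieve.ofArrows, Sieve.generate_le_iff]
    rintro _ _ ⟨w⟩
    exact ⟨⟨V w, 𝟙 _, g w, Category.id_comp _⟩⟩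

/-- Morphisms of the small etale site are open maps. -/
theorem isOpenMap_hom {E E' : EtOver X} (g : E ⟶ E') : IsOpenMap g.hom.left.left := by
  haveI := EtOver.etale_left g
  exact g.hom.left.left.isOpenMap

/-- A morphism hitting the image of a section factors through it. -/
theorem exists_comp_eq_of_range {A P Q : EtOver X} (Γ : A ⟶ P) (r : P ⟶ A) (hr : Γ ≫ r = 𝟙 A)
    (k : Q ⟶ P) (h : Set.range k.hom.left.left ⊆ Set.range Γ.hom.left.left) :
    ∃ m : Q ⟶ A, m ≫ Γ = k := by
  haveI := EtOver.etale_left Γ
  haveI : Mono Γ.hom.left.left := by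
    refine @SplitMono.mono _ _ _ _ _ ⟨r.hom.left.left, ?_⟩
    exact congrArg (fun j => j.hom.left.left) hr
  haveI : IsOpenImmersion Γ.hom.left.left := IsOpenImmersion.of_flat_of_mono _
  refine ⟨k ≫ r, EtOver.hom_ext _ _ (Over.OverMorphism.ext ?_)⟩
  have e : IsOpenImmersion.lift Γ.hom.left.left k.hom.left.left h ≫ Γ.hom.left.left = k.hom.left.left :=
    IsOpenImmersion.lift_fac _ _ h
  have e2 : Γ.hom.left.left ≫ r.hom.left.left = 𝟙 _ := congrArg (fun j => j.hom.left.left) hr
  change (k.hom.left.left ≫ r.hom.left.left) ≫ Γ.hom.left.left = k.hom.left.left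
  rw [← e, Category.assoc _ Γ.hom.left.left r.hom.left.left, e2, Category.comp_id]

theorem isLocallyFull (he : Emb hrep) : (EtOver.bc hrep).IsLocallyFull (etTop X) where
  functorPushforward_imageSieve_mem {U V} h := by
    let hl := QCPull13.bcProdIsLimit hrep U V
    obtain ⟨Γ, hΓ₁, hΓ₂⟩ := BinaryFan.IsLimit.lift' hl (𝟙 _) h
    let π := (EtOver.bcπ hrep (EtOver.prodObj U V)).left
    obtain ⟨O, hO, hOΓ⟩ := (he (EtOver.prodObj U V)).isInducing.isOpen_iff.1 (isOpenMap_hom Γ).isOpen_range
    let O' : (EtOver.prodObj U V).obj.left.left.Opens := ⟨O, hO⟩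
    let ι := etOpenι (EtOver.prodObj U V) O'
    have sq := EtOver.isPullback_bcMap_left hrep ι
    have hrange : Set.range ((EtOver.bc hrep).map ι).hom.left.left ⊆ Set.range Γ.hom.left.left := by
      rintro _ ⟨z, rfl⟩
      rw [← hOΓ]
      change π (((EtOver.bcMap hrep ι).hom.left.left) z) ∈ O
      rw [← Scheme.Hom.comp_apply, sq.w, Scheme.Hom.comp_apply]
      exact (range_etOpenι (EtOver.prodObj U V) O').subset ⟨_, rfl⟩
    obtain ⟨m, hm⟩ := exists_comp_eq_of_range Γ _ hΓ₁ _ hrange
    have hg : (EtOver.bc hrep).map (ι ≫ EtOver.prodFst U V) = m := by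
      rw [Functor.map_comp, ← hm, Category.assoc]
      exact (congrArg (m ≫ ·) hΓ₁).trans (Category.comp_id _)
    have himg : (EtOver.bc hrep).imageSieve h (ι ≫ EtOver.prodFst U V) := by
      refine ⟨ι ≫ EtOver.prodSnd U V, ?_⟩
      rw [hg, Functor.map_comp, ← hm, Category.assoc]
      exact congrArg (m ≫ ·) hΓ₂
    refine GrothendieckTopology.superset_covering _ ?_
      (AlgSpDec.ofArrows_mem_etTop (fun _ : PUnit.{1} => _) (fun _ => (EtOver.bc hrep).map (ι ≫ EtOver.prodFst U V))
        fun x => ⟨⟨⟩, ?_⟩)
    · rw [Sieve.ofArrows, Sieve.generate_le_iff]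
      rintro _ _ ⟨i⟩
      exact Sieve.image_mem_functorPushforward (EtOver.bc hrep) _ himg
    · have hx : π (Γ.hom.left.left x) ∈ O := hOΓ.symm.subset ⟨x, rfl⟩
      obtain ⟨y, hy⟩ := (range_etOpenι (EtOver.prodObj U V) O').symm.subset hx
      obtain ⟨z, hz, -⟩ := Scheme.Pullback.exists_preimage_pullback (f := π) (g := ι.hom.left.left)
        (Γ.hom.left.left x) y hy.symm
      refine ⟨sq.isoPullback.inv z, ?_⟩
      have h1 : ((EtOver.bc hrep).map ι).hom.left.left (sq.isoPullback.inv z) = Γ.hom.left.left x :=
        (Scheme.Hom.comp_apply _ _ z).symm.trans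
          ((congrArg (fun j : pullback π ι.hom.left.left ⟶ (EtOver.bcObj hrep (EtOver.prodObj U V)).obj.left.left => j z)
            sq.isoPullback_inv_fst).trans hz)
      rw [Functor.map_comp]
      refine (Scheme.Hom.comp_apply ((EtOver.bc hrep).map ι).hom.left.left
        ((EtOver.bc hrep).map (EtOver.prodFst U V)).hom.left.left _).trans ?_
      rw [h1]
      exact (Scheme.Hom.comp_apply Γ.hom.left.left ((EtOver.bc hrep).map (EtOver.prodFst U V)).hom.left.left x).symm.trans
        (congrArg (fun j : (EtOver.bc hrep).obj U ⟶ (EtOver.bc hrep).obj U => j.hom.left.left x) hΓ₁)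

theorem full_pushEt (hd : Dense hrep) (he : Emb hrep) (A : Type (u + 2)) [Category.{u + 1} A] :
    (pushEt hrep A).Full :=
  haveI := isCoverDense hrep hd
  haveI := isLocallyFull hrep he
  inferInstance

theorem faithful_pushEt (hd : Dense hrep) (he : Emb hrep) (A : Type (u + 2)) [Category.{u + 1} A] :
    (pushEt hrep A).Faithful :=
  haveI := isCoverDense hrep hd
  haveI := isLocallyFull hrep he
  inferInstance

theorem isIso_counit (hd : Dense hrep) (he : Emb hrep) (A : Type (u + 2)) [Category.{u + 1} A]
    [((EtOver.bc hrep).sheafPushforwardContinuous A (etTop Y) (etTop X)).IsRightAdjoint] :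
    IsIso (pullPushAdjEt hrep A).counit :=
  haveI := full_pushEt hrep hd he A
  haveI := faithful_pushEt hrep hd he A
  inferInstance

end Groth.Agent.PushDense13

end
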