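import Groth.Agent.PushDense13.Cases
import Groth.Agent.AlgSpDec.EtPoint
import Groth.Agent.AlgSpDec.EtNbhdCofiltered

/-!
# Stalks of direct images along dense embedded base change
-/

set_option autoImplicit false
set_option backward.isDefEq.respectTransparency false
set_option backward.isDefEq.respectTransparency.types false

noncomputable section

universe u

open CategoryTheory CategoryTheory.Limits AlgebraicGeometry Opposite AlgSp Topology
open Groth.Agent.AlgSpDec

namespace Groth.Agent.PushDense13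

variable {S : Scheme.{u}} {X Y : Sp S} {f : X ⟶ Y} (hrep : Representable f) (z : FieldPt X)

/-- The base change of a neighbourhood of the image point. -/
def bcNbhd (N : EtNbhd (z.map f)) : EtNbhd z :=
  ⟨(EtOver.bc hrep).obj N.1,
    ⟨hrep.lift z.toHom N.2.1 ((N.2.2.trans (FieldPt.toHom_map f z)).symm), hrep.lift_fst _ _ _⟩⟩

/-- A morphism of neighbourhoods induces one between the base changes. -/
def bcNbhdMap {N M : EtNbhd (z.map f)} (g : N ⟶ M) : bcNbhd hrep z N ⟶ bcNbhd hrep z M :=
  CategoryOfElements.homMk _ _ ((EtOver.bc hrep).map g.val) (Subtype.ext (hrep.hom_ext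
    (by
      refine Eq.trans ?_ (hrep.lift_fst _ _ _).symm
      change (yon S).map (hrep.lift z.toHom N.2.1 _ ≫ (EtOver.bcMap hrep g.val).hom.left) ≫
        hrep.fst M.1.obj.hom = z.toHom
      rw [Functor.map_comp, Category.assoc, EtOver.map_bcMap_fst, hrep.lift_fst])
    (by
      refine Eq.trans ?_ (hrep.lift_snd _ _ _).symm
      change (hrep.lift z.toHom N.2.1 _ ≫ (EtOver.bcMap hrep g.val).hom.left) ≫
        hrep.snd M.1.obj.hom = M.2.1
      rw [Category.assoc, EtOver.bcMap_snd, ← Category.assoc, hrep.lift_snd]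
      exact congrArg Subtype.val g.property)))

/-- The neighbourhood of the image point given by a lift to a base change. -/
def nbhdOfLift (V : EtOver Y) (y : (FieldPt.liftsTo z).obj ((EtOver.bc hrep).obj V)) : EtNbhd (z.map f) :=
  ⟨V, ⟨y.1 ≫ hrep.snd V.obj.hom, by
    rw [Functor.map_comp, Category.assoc]
    change (yon S).map y.1 ≫ (yon S).map (hrep.snd V.obj.hom) ≫ V.obj.hom = _
    rw [← hrep.w, ← Category.assoc, FieldPt.toHom_map]
    exact congrArg (· ≫ f) y.2⟩⟩

theorem lift_nbhdOfLift (V : EtOver Y) (y : (FieldPt.liftsTo z).obj ((EtOver.bc hrep).obj V)) :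
    (bcNbhd hrep z (nbhdOfLift hrep z V y)).2 = y :=
  Subtype.ext (hrep.hom_ext ((hrep.lift_fst _ _ _).trans y.2.symm) (hrep.lift_snd _ _ _))

variable (F : EtSh X (Type (u + 1)))

/-- The map from the stalk of the direct image. -/
def stalkMap : stalkEt (z.map f) ((pushEt hrep (Type (u + 1))).obj F) ⟶ stalkEt z F :=
  colimit.desc (stalkEtDiagram (z.map f) ((pushEt hrep (Type (u + 1))).obj F))
    { pt := stalkEt z F
      ι :=
        { app := fun N => stalkEtι z F (bcNbhd hrep z N.unop)
          naturality := fun N M g => by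
            exact (colimit.w (stalkEtDiagram z F) (bcNbhdMap hrep z g.unop).op).trans (Category.comp_id _).symm } }

theorem stalkMap_ι (N : EtNbhd (z.map f)) (s : F.obj.obj (op ((EtOver.bc hrep).obj N.1))) :
    stalkMap hrep z F (stalkEtι (z.map f) ((pushEt hrep (Type (u + 1))).obj F) N s) =
      stalkEtι z F (bcNbhd hrep z N) s :=
  ConcreteCategory.congr_hom (colimit.ι_desc (F := stalkEtDiagram (z.map f) ((pushEt hrep (Type (u + 1))).obj F))
    _ (op N)) s

/-- Two sections over one neighbourhood with the same germ upstairs have the same germ downstairs. -/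
theorem stalkι_eq_of_bc (hX : IsAlgSpace X) (hY : IsAlgSpace Y) (hz : z.IsGeometric)
    (hd : Dense hrep) (he : Emb hrep) (N : EtNbhd (z.map f))
    (s t : F.obj.obj (op ((EtOver.bc hrep).obj N.1)))
    (hab : stalkEtι z F (bcNbhd hrep z N) s = stalkEtι z F (bcNbhd hrep z N) t) :
    stalkEtι (z.map f) ((pushEt hrep (Type (u + 1))).obj F) N s =
      stalkEtι (z.map f) ((pushEt hrep (Type (u + 1))).obj F) N t := by
  haveI := AlgSpDec.isCofiltered_etNbhd z hX hz
  haveI := AlgSpDec.isCofiltered_etNbhd (z.map f) hY hz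
  haveI := isCoverDense hrep hd
  haveI := isLocallyFull hrep he
  obtain ⟨⟨W⟩, g, g', hgg⟩ :=
    (Types.FilteredColimit.colimit_eq_iff (F := stalkEtDiagram z F)).1 hab
  obtain ⟨K, h, hh⟩ : ∃ (K : EtNbhd z) (h : K ⟶ W), h ≫ g.unop = h ≫ g'.unop :=
    AlgSpDec.exists_cone_map z g.unop g'.unop
  have hst : F.obj.map (h ≫ g.unop).val.op s = F.obj.map (h ≫ g.unop).val.op t := by
    refine (FunctorToTypes.map_comp_apply F.obj g.unop.val.op h.val.op s).trans ?_
    refine (congrArg (F.obj.map h.val.op) hgg).trans ?_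
    refine (FunctorToTypes.map_comp_apply F.obj g'.unop.val.op h.val.op t).symm.trans ?_
    exact congrArg (fun j : K ⟶ bcNbhd hrep z N => F.obj.map j.val.op t) hh.symm
  obtain ⟨Z, c, ⟨⟨V, a, b, rfl⟩⟩, ζ, hζ⟩ := EtPoint.jointly_surjective hz _
    ((EtOver.bc hrep).is_cover_of_isCoverDense (etTop X) K.1) K.2
  let k := b ≫ (h ≫ g.unop).val
  let y : (FieldPt.liftsTo z).obj ((EtOver.bc hrep).obj V) := (FieldPt.liftsTo z).map a ζ
  obtain ⟨Z', c', ⟨V', i, a', ⟨l, hl⟩, rfl⟩, ζ', hζ'⟩ := EtPoint.jointly_surjective hz _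
    ((EtOver.bc hrep).functorPushforward_imageSieve_mem (etTop X) k) y
  let y' : (FieldPt.liftsTo z).obj ((EtOver.bc hrep).obj V') := (FieldPt.liftsTo z).map a' ζ'
  let N' := nbhdOfLift hrep z V' y'
  have hy' : (FieldPt.liftsTo z).map ((EtOver.bc hrep).map l) y' = (bcNbhd hrep z N).2 := by
    have h1 : (FieldPt.liftsTo z).map ((EtOver.bc hrep).map i) y' = y := by
      rw [← hζ']
      exact (FunctorToTypes.map_comp_apply _ _ _ _).symm
    rw [hl, FunctorToTypes.map_comp_apply, h1]
    change (FieldPt.liftsTo z).map (b ≫ (h ≫ g.unop).val) ((FieldPt.liftsTo z).map a ζ) = _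
    rw [← FunctorToTypes.map_comp_apply, ← Category.assoc, FunctorToTypes.map_comp_apply, hζ]
    exact (h ≫ g.unop).property
  let m : N' ⟶ N := CategoryOfElements.homMk _ _ l (Subtype.ext (by
    have e := congrArg Subtype.val hy'
    change (y'.1 ≫ hrep.snd V'.obj.hom) ≫ l.hom.left = N.2.1
    change y'.1 ≫ (EtOver.bcMap hrep l).hom.left = _ at e
    rw [Category.assoc, ← EtOver.bcMap_snd, ← Category.assoc, e]
    exact hrep.lift_snd _ _ _))
  refine (Types.FilteredColimit.colimit_eq_iff _).2 ⟨op N', m.op, m.op, ?_⟩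
  change F.obj.map ((EtOver.bc hrep).map l).op s = F.obj.map ((EtOver.bc hrep).map l).op t
  rw [hl]
  simp only [op_comp, FunctorToTypes.map_comp_apply]
  refine congrArg (F.obj.map ((EtOver.bc hrep).map i).op) ?_
  simp only [k, op_comp, FunctorToTypes.map_comp_apply] at hst ⊢
  exact congrArg (F.obj.map b.op) hst

theorem bijective_stalkMap (hX : IsAlgSpace X) (hY : IsAlgSpace Y) (hz : z.IsGeometric)
    (hd : Dense hrep) (he : Emb hrep) : Function.Bijective (stalkMap hrep z F) := by
  haveI := AlgSpDec.isCofiltered_etNbhd z hX hz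
  haveI := AlgSpDec.isCofiltered_etNbhd (z.map f) hY hz
  haveI := isCoverDense hrep hd
  haveI := isLocallyFull hrep he
  constructor
  · intro a b hab
    obtain ⟨⟨N₁⟩, s₁, rfl⟩ := Types.jointly_surjective' a
    obtain ⟨⟨N₂⟩, s₂, rfl⟩ := Types.jointly_surjective' b
    -- move both to one neighbourhood
    have e₁ := ConcreteCategory.congr_hom (colimit.w (stalkEtDiagram (z.map f) ((pushEt hrep (Type (u + 1))).obj F))
      (IsFiltered.leftToMax (op N₁) (op N₂))) s₁
    have e₂ := ConcreteCategory.congr_hom (colimit.w (stalkEtDiagram (z.map f) ((pushEt hrep (Type (u + 1))).obj F))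
      (IsFiltered.rightToMax (op N₁) (op N₂))) s₂
    refine e₁.symm.trans (Eq.trans ?_ e₂)
    refine stalkι_eq_of_bc hrep z F hX hY hz hd he (IsFiltered.max (op N₁) (op N₂)).unop _ _ ?_
    refine (stalkMap_ι hrep z F _ _).symm.trans ?_
    refine Eq.trans ?_ (stalkMap_ι hrep z F _ _)
    refine (congrArg (stalkMap hrep z F) e₁).trans (Eq.trans hab ?_)
    exact (congrArg (stalkMap hrep z F) e₂).symm
  · intro e
    obtain ⟨⟨W⟩, s, rfl⟩ := Types.jointly_surjective' e
    obtain ⟨Z, c, ⟨⟨V, a, b, rfl⟩⟩, ζ, hζ⟩ := EtPoint.jointly_surjective hz _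
      ((EtOver.bc hrep).is_cover_of_isCoverDense (etTop X) W.1) W.2
    let y : (FieldPt.liftsTo z).obj ((EtOver.bc hrep).obj V) := (FieldPt.liftsTo z).map a ζ
    refine ⟨stalkEtι (z.map f) ((pushEt hrep (Type (u + 1))).obj F) (nbhdOfLift hrep z V y) (F.obj.map b.op s), ?_⟩
    rw [stalkMap_ι]
    let m : bcNbhd hrep z (nbhdOfLift hrep z V y) ⟶ W := CategoryOfElements.homMk _ _ b (by
      rw [lift_nbhdOfLift]
      change (FieldPt.liftsTo z).map b ((FieldPt.liftsTo z).map a ζ) = W.2
      rw [← FunctorToTypes.map_comp_apply, hζ])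
    exact ConcreteCategory.congr_hom (colimit.w (stalkEtDiagram z F) m.op) s

end Groth.Agent.PushDense13

end
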